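import Groth.Agent.HilbObsLib.Induct
import Groth.Agent.HilbPointLib.QuotRegular

/-!
# Extending quotients along a small extension over an arbitrary base
-/

set_option autoImplicit false
set_option backward.isDefEq.respectTransparency false
set_option backward.isDefEq.respectTransparency.types false
set_option linter.style.haveILetI false

universe u

open CategoryTheory CategoryTheory.Limits AlgebraicGeometry TopologicalSpace Opposite
open Groth.Agent.PullbackMod Groth.Agent.DCohLib IsLocalRing Groth.Agent.HilbObsLib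

noncomputable section

namespace Groth.Agent.RelQuotLib

variable {S X : Scheme.{u}} (x : X ⟶ S) (E : X.Modules)

theorem xtmap_comp {U V W : Over S} (a : W ⟶ V) (b : V ⟶ U) :
    PicF.XTmap x (a ≫ b) = PicF.XTmap x a ≫ PicF.XTmap x b := by
  apply pullback.hom_ext <;>
    simp only [PicF.XTmap, pullback.map, Over.comp_left, pullback.lift_fst, pullback.lift_snd,
      Category.assoc, pullback.lift_fst_assoc, pullback.lift_snd_assoc, Category.comp_id]

variable {U V : Over S} (b : V ⟶ U)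

/-- The quotient `E_U ⟶ j_* (E_V / K)`. -/
def qm (K : Subobject (FGA.ET x E V)) :
    FGA.ET x E U ⟶ (Scheme.Modules.pushforward (PicF.XTmap x b)).obj (cokernel K.arrow) :=
  (Scheme.Modules.pullbackPushforwardAdjunction (PicF.XTmap x b)).homEquiv _ _
    ((FGA.ETiso x E b).hom ≫ cokernel.π K.arrow)

theorem pushStalk_qm (K : Subobject (FGA.ET x E V)) (w : PicF.XT x V)
    (z : (FGA.ET x E U).presheaf.stalk (PicF.XTmap x b w)) :
    pushStalk (PicF.XTmap x b) _ w (stalkLin (qm x E b K) (PicF.XTmap x b w) z) =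
      stalkLin (cokernel.π K.arrow) w (stalkLin (FGA.ETiso x E b).hom w (pullStalk (PicF.XTmap x b) _ w z)) := by
  rw [qm, Adjunction.homEquiv_unit, stalkLin_comp, LinearMap.comp_apply]
  refine (pushStalk_map (PicF.XTmap x b) _ w _).trans
    ((congrArg _ (unit_stalk_pushStalk (PicF.XTmap x b) _ w z)).trans ?_)
  rw [stalkLin_comp, LinearMap.comp_apply]

theorem pull_comp_qm (K : Subobject (FGA.ET x E V)) {M : (PicF.XT x U).Modules} (κ : M ⟶ FGA.ET x E U)
    (h : κ ≫ qm x E b K = 0) :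
    (Scheme.Modules.pullback (PicF.XTmap x b)).map κ ≫ (FGA.ETiso x E b).hom ≫ cokernel.π K.arrow = 0 := by
  rw [qm, ← Adjunction.homEquiv_naturality_left] at h
  refine ((Scheme.Modules.pullbackPushforwardAdjunction (PicF.XTmap x b)).homEquiv _ _).injective (h.trans ?_)
  exact ((Scheme.Modules.pullbackPushforwardAdjunction (PicF.XTmap x b)).homAddEquiv _ _).map_zero.symm

theorem exists_factor {K' : Subobject (FGA.ET x E U)} {K : Subobject (FGA.ET x E V)}
    (h : FGA.quotPull x E b K' = K) :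
    ∃ e : (Scheme.Modules.pullback (PicF.XTmap x b)).obj (K' : (PicF.XT x U).Modules) ⟶ (K : (PicF.XT x V).Modules),
      Epi e ∧ (Scheme.Modules.pullback (PicF.XTmap x b)).map K'.arrow ≫ (FGA.ETiso x E b).hom = e ≫ K.arrow := by
  subst h
  exact ⟨factorThruImageSubobject _, inferInstance, (imageSubobject_arrow_comp _).symm⟩

theorem quotPull_eq (K : Subobject (FGA.ET x E V)) {M : (PicF.XT x U).Modules} (κ : M ⟶ FGA.ET x E U)
    [Mono κ] (e : (Scheme.Modules.pullback (PicF.XTmap x b)).obj M ⟶ (K : (PicF.XT x V).Modules)) [Epi e]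
    (h : (Scheme.Modules.pullback (PicF.XTmap x b)).map κ ≫ (FGA.ETiso x E b).hom = e ≫ K.arrow) :
    FGA.quotPull x E b (Subobject.mk κ) = K := by
  refine (imageSubobject_epi_comp ((Scheme.Modules.pullback (PicF.XTmap x b)).map (Subobject.underlyingIso κ).hom ≫ e)
    K.arrow _ ?_).trans (Subobject.mk_arrow K)
  rw [Category.assoc, ← h, ← Functor.map_comp_assoc, Subobject.underlyingIso_hom_comp_eq_mk]

theorem exists_comparison {W : Over S} (a : W ⟶ V) {c : W ⟶ U} (hc : a ≫ b = c)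
    {M : (PicF.XT x U).Modules} {κ : M ⟶ FGA.ET x E U} {K : Subobject (FGA.ET x E V)}
    {e : (Scheme.Modules.pullback (PicF.XTmap x b)).obj M ⟶ (K : (PicF.XT x V).Modules)} [Epi e]
    (he : (Scheme.Modules.pullback (PicF.XTmap x b)).map κ ≫ (FGA.ETiso x E b).hom = e ≫ K.arrow)
    {K₀ : Subobject (FGA.ET x E W)} (h : FGA.quotPull x E a K = K₀) :
    ∃ e' : (Scheme.Modules.pullback (PicF.XTmap x c)).obj M ⟶ (K₀ : (PicF.XT x W).Modules),
      Epi e' ∧ (Scheme.Modules.pullback (PicF.XTmap x c)).map κ ≫ (FGA.ETiso x E c).hom = e' ≫ K₀.arrow := by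
  subst hc
  obtain ⟨eA, hA, heA⟩ := exists_factor x E a h
  haveI := hA
  have hab := (xtmap_comp x a b).symm
  let ψ := Scheme.Modules.pullbackComp (PicF.XTmap x a) (PicF.XTmap x b) ≪≫ Scheme.Modules.pullbackCongr hab
  refine ⟨ψ.inv.app M ≫ (Scheme.Modules.pullback (PicF.XTmap x a)).map e ≫ eA, inferInstance, ?_⟩
  rw [Category.assoc, Category.assoc, ← heA, ← Functor.map_comp_assoc, ← he, Functor.map_comp, Category.assoc,
    etiso_comp x E a b hab]
  show _ = ψ.inv.app M ≫ ((Scheme.Modules.pullback _).map ((Scheme.Modules.pullback _).map κ)) ≫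
    ψ.hom.app (FGA.ET x E U) ≫ (FGA.ETiso x E (a ≫ b)).hom
  erw [← ψ.inv.naturality_assoc κ]
  simp

variable [LocallyOfFiniteType x] {B A F : Type u} [CommRing B] [CommRing A] [Field F]
  [IsLocalRing B] [IsArtinianRing B] [IsLocalRing A] [IsArtinianRing A]

set_option maxHeartbeats 1000000 in
/-- A quotient extends along a small extension when the fibre has no obstructions. -/
theorem exists_extension_small (hE : Coh.IsCoh E) (hflatE : FlatMod.IsFlatOver x E)
    (μ : B →+* A) (hμ : Function.Surjective μ) (ε : B) (hker : RingHom.ker μ = Ideal.span {ε}) (hε : ε ≠ 0)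
    (hm : ∀ b ∈ maximalIdeal B, b * ε = 0) (ρ : A →+* F) (hρ : Function.Surjective ρ)
    (sB : Spec (CommRingCat.of B) ⟶ S) (sA : Spec (CommRingCat.of A) ⟶ S) (s : Spec (CommRingCat.of F) ⟶ S)
    (hA : Spec.map (CommRingCat.ofHom μ) ≫ sB = sA) (hs : Spec.map (CommRingCat.ofHom ρ) ≫ sA = s)
    (K : FGA.QuotSet x E (Over.mk sA)) (K₀ : FGA.QuotSet x E (Over.mk s))
    (hK₀ : FGA.quotPull x E (Over.homMk (Spec.map (CommRingCat.ofHom ρ)) hs : Over.mk s ⟶ Over.mk sA) K.1 = K₀.1)
    [HasExt.{u} (PicF.XT x (Over.mk s)).Modules]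
    (hExt : Subsingleton (Abelian.Ext.{u} (Subobject.underlying.obj K₀.1) (cokernel K₀.1.arrow) 1)) :
    ∃ K' : FGA.QuotSet x E (Over.mk sB),
      FGA.quotPull x E (Over.homMk (Spec.map (CommRingCat.ofHom μ)) hA : Over.mk sA ⟶ Over.mk sB) K'.1 = K.1 := by
  haveI := hE.1
  haveI := K.2.1.1
  let TA : Over S := Over.mk sA
  let TB : Over S := Over.mk sB
  let T₀ : Over S := Over.mk s
  let b : TA ⟶ TB := Over.homMk (Spec.map (CommRingCat.ofHom μ)) hA
  let a : T₀ ⟶ TA := Over.homMk (Spec.map (CommRingCat.ofHom ρ)) hs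
  let c : T₀ ⟶ TB := Over.homMk (Spec.map (CommRingCat.ofHom (ρ.comp μ))) (by
    show Spec.map _ ≫ sB = s
    rw [CommRingCat.ofHom_comp, Spec.map_comp, Category.assoc, hA, hs])
  have hc : a ≫ b = c := Over.OverMorphism.ext (by
    show Spec.map _ ≫ Spec.map _ = Spec.map _
    rw [← Spec.map_comp]
    rfl)
  letI := algOf (PicF.XTproj x TB)
  letI := algOf (PicF.XTproj x TA)
  haveI : LocallyOfFiniteType (PicF.XTproj x TB) := MorphismProperty.pullback_snd _ _ ‹LocallyOfFiniteType x›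
  haveI : LocallyOfFiniteType (PicF.XTproj x T₀) := MorphismProperty.pullback_snd _ _ ‹LocallyOfFiniteType x›
  haveI : IsLocallyNoetherian TB.left := inferInstanceAs (IsLocallyNoetherian (Spec (CommRingCat.of B)))
  haveI : IsLocallyNoetherian T₀.left := inferInstanceAs (IsLocallyNoetherian (Spec (CommRingCat.of F)))
  haveI : IsLocallyNoetherian (PicF.XT x TB) := LocallyOfFiniteType.isLocallyNoetherian (PicF.XTproj x TB)
  haveI : IsLocallyNoetherian (PicF.XT x T₀) := LocallyOfFiniteType.isLocallyNoetherian (PicF.XTproj x T₀)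
  let j := PicF.XTmap x b
  let i := PicF.XTmap x c
  have hj : Thick j (RingHom.ker μ) := thick_of_isPullback μ hμ (PullbackMod.isPullback_XTmap x b)
  have hρμ : Function.Surjective (ρ.comp μ) := hρ.comp hμ
  have hi : Thick i (maximalIdeal B) := by
    have h := thick_of_isPullback (ρ.comp μ) hρμ (PullbackMod.isPullback_XTmap x c)
    rwa [IsLocalRing.eq_maximalIdeal (RingHom.ker_isMaximal_of_surjective _ hρμ)] at h
  haveI : IsClosedImmersion j := hj.closedImm
  haveI : IsClosedImmersion i := hi.closedImm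
  have hεker : ε ∈ RingHom.ker μ := hker.ge (Ideal.mem_span_singleton_self ε)
  have hεm : ε ∈ maximalIdeal B := IsLocalRing.le_maximalIdeal (RingHom.ker_ne_top _) hεker
  have hnil : IsNilpotent (maximalIdeal B) :=
    (IsArtinianRing.isNilpotent_jacobson_bot (R := B)).imp fun n hn => by
      rwa [IsLocalRing.jacobson_eq_maximalIdeal (⊥ : Ideal B) bot_ne_top] at hn
  let q := qm x E b K.1
  have hQ : FlatQuot (Ideal.span {ε}) ((Scheme.Modules.pushforward j).obj (cokernel K.1.arrow)) := by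
    intro z
    obtain ⟨w, rfl⟩ := hj.surj z
    let M := cokernel K.1.arrow
    haveI : Module.Flat A (M.presheaf.stalk w) := flat_stalk_of_isFlatOverAt _ M w (K.2.2 w)
    let φ : (B ⧸ Ideal.span {ε}) ≃+* A :=
      (Ideal.quotEquivOfEq hker.symm).trans (RingHom.quotientKerEquivOfSurjective hμ)
    have hφ : ∀ r, φ (Ideal.Quotient.mk _ r) = μ r := fun r => rfl
    let ψ : ((Scheme.Modules.pushforward j).obj M).presheaf.stalk (j w) ≃+ M.presheaf.stalk w :=
      AddEquiv.ofBijective (pushStalk j M w) (bijective_pushStalk j M w)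
    letI := φ.toRingHom.toAlgebra
    letI : Module (B ⧸ Ideal.span {ε}) (M.presheaf.stalk w) := Module.compHom _ φ.toRingHom
    haveI : IsScalarTower (B ⧸ Ideal.span {ε}) A (M.presheaf.stalk w) := .of_algebraMap_smul fun _ _ => rfl
    haveI : Module.Flat (B ⧸ Ideal.span {ε}) A :=
      Module.Flat.of_linearEquiv (LinearEquiv.ofBijective (Algebra.linearMap _ A) φ.bijective).symm
    haveI hfl : Module.Flat (B ⧸ Ideal.span {ε}) (M.presheaf.stalk w) := Module.Flat.trans _ A (M.presheaf.stalk w)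
    letI m := ψ.module (B ⧸ Ideal.span {ε})
    refine ⟨m, IsScalarTower.of_algebraMap_smul fun r n => ψ.injective ?_,
      Module.Flat.of_linearEquiv (ψ.linearEquiv (B ⧸ Ideal.span {ε}))⟩
    show ψ (ψ.symm (φ (Ideal.Quotient.mk _ r) • ψ n)) = pushStalk j M w (scal (j w) r • n)
    rw [AddEquiv.apply_symm_apply, pushStalk_smul, hφ]
    show scal (B := A) w (μ r) • ψ n = j.stalkMap w (scal (j w) r) • ψ n
    refine congrArg (· • ψ n) ?_
    rw [scal_eq, scal_eq]
    refine ((Scheme.Hom.germ_stalkMap_apply (PicF.XTproj x TA) ⊤ w trivial _).trans ?_).trans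
      (congrArg _ (Scheme.Hom.germ_stalkMap_apply (PicF.XTproj x TB) ⊤ (j w) trivial _)).symm
    refine Eq.trans ?_ (Scheme.Hom.germ_stalkMap_apply j ⊤ w trivial _).symm
    refine congrArg (fun t => (PicF.XT x TA).presheaf.germ ⊤ w trivial t) ?_
    show (PicF.XTproj x TA).appTop _ = ((PicF.XTproj x TB).appTop ≫ j.appTop) _
    rw [← Scheme.Hom.comp_appTop, (PullbackMod.isPullback_XTmap x b).w, Scheme.Hom.comp_appTop,
      CommRingCat.comp_apply]
    refine congrArg _ ?_
    exact congr($(Scheme.ΓSpecIso_inv_naturality (CommRingCat.ofHom μ)) r)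
  haveI : Epi q := by
    refine (epi_iff_stalk _).2 fun z y => ?_
    obtain ⟨w, rfl⟩ := hj.surj z
    obtain ⟨v, hv⟩ := (epi_iff_stalk (cokernel.π K.1.arrow)).1 inferInstance w (pushStalk j _ w y)
    obtain ⟨v', rfl⟩ := ((isIso_iff_stalk (FGA.ETiso x E b).hom).1 inferInstance w).2 v
    obtain ⟨v'', rfl⟩ := pullStalk_surjective hj _ w v'
    exact ⟨v'', (bijective_pushStalk j _ w).1 ((pushStalk_qm x E b K.1 w v'').trans hv)⟩
  have hpull := pull_comp_qm x E b K.1 (kernel.ι q) (kernel.condition q)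
  let e₀ : (Scheme.Modules.pullback j).obj (kernel q) ⟶ (K.1 : (PicF.XT x TA).Modules) :=
    Abelian.monoLift K.1.arrow ((Scheme.Modules.pullback j).map (kernel.ι q) ≫ (FGA.ETiso x E b).hom)
      (by rw [Category.assoc]; exact hpull)
  have he₀ : (Scheme.Modules.pullback j).map (kernel.ι q) ≫ (FGA.ETiso x E b).hom = e₀ ≫ K.1.arrow :=
    (Abelian.monoLift_comp _ _ _).symm
  have hθ : ∀ (w : PicF.XT x TA) (n : (kernel q).presheaf.stalk (j w)),
      stalkLin K.1.arrow w (stalkLin e₀ w (pullStalk j _ w n)) =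
        stalkLin (FGA.ETiso x E b).hom w (pullStalk j _ w (stalkLin (kernel.ι q) (j w) n)) := fun w n => by
    rw [← LinearMap.comp_apply, ← stalkLin_comp, ← he₀, stalkLin_comp, LinearMap.comp_apply, pullStalk_natural]
  haveI : Epi e₀ := by
    refine (epi_iff_stalk _).2 fun w y => ?_
    obtain ⟨v, hv⟩ := ((isIso_iff_stalk (FGA.ETiso x E b).hom).1 inferInstance w).2 (stalkLin K.1.arrow w y)
    obtain ⟨v', rfl⟩ := pullStalk_surjective hj _ w v
    have h0 : stalkLin q (j w) v' = 0 := (bijective_pushStalk j _ w).1 (by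
      rw [pushStalk_qm, hv, map_zero, ← LinearMap.comp_apply, ← stalkLin_comp, cokernel.condition,
        DevLib.stalkLin_zero, LinearMap.zero_apply])
    obtain ⟨n, rfl⟩ := stalk_kernel_ι_exists q _ h0
    exact ⟨pullStalk j _ w n, (mono_iff_stalk K.1.arrow).1 inferInstance w ((hθ w n).trans hv)⟩
  obtain ⟨e', he', hcomm₀⟩ := exists_comparison x E b a hc he₀ hK₀
  haveI := he'
  have hext : Subsingleton (Abelian.Ext.{u} (image (resι q i)) (cokernel (resι q i)) 1) := by
    obtain ⟨u₁⟩ := nonempty_image_iso (FGA.ETiso x E c) hcomm₀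
    obtain ⟨u₂⟩ := nonempty_cokernel_iso (FGA.ETiso x E c) hcomm₀
    exact subsingleton_ext_iso (u₁ ≪≫ imageMonoIsoSource K₀.1.arrow) u₂ 1 hExt
  have hflat_ET : ∀ z, Module.Flat B ((FGA.ET x E TB).presheaf.stalk z) := fun z =>
    flat_stalk_of_isFlatOverAt _ _ z
      (PullbackMod.isFlatOverAt_baseChange (IsPullback.of_hasPullback x TB.hom) E z (hflatE _))
  obtain ⟨Q₀, ρ₀, hQ₀, hflat, hsup⟩ := exists_lift ε q hi hm hε hεm hflat_ET hQ hnil hext
  have hcE : Coh.IsCoh (FGA.ET x E TB) := PullbackMod.isCoh_pullback _ _ hE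
  have hcohK : Coh.IsCoh (kernel q) :=
    (QCohLib.isCoh_kernel_cokernel q hcE (DevLib.isCoh_pushforward_closed j K.2.1)).1
  have hcohQ₀ : Coh.IsCoh Q₀ := by
    rw [hQ₀]
    exact (QCohLib.isCoh_kernel_cokernel _ (PullbackMod.isCoh_pullback _ _ hcohK)
      (PullbackMod.isCoh_pullback _ _ hcE)).2
  have hcohK' : Coh.IsCoh (kernel ρ₀) :=
    (QCohLib.isCoh_kernel_cokernel ρ₀ hcohK (DevLib.isCoh_pushforward_closed i hcohQ₀)).1
  let κ : kernel ρ₀ ⟶ FGA.ET x E TB := kernel.ι ρ₀ ≫ kernel.ι q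
  have hcoh : Coh.IsCoh (cokernel κ) := (QCohLib.isCoh_kernel_cokernel κ hcohK' hcE).2
  let ec : cokernel (Subobject.mk κ).arrow ≅ cokernel κ :=
    cokernelIsoOfEq (Subobject.underlyingIso_hom_comp_eq_mk κ).symm ≪≫ cokernelEpiComp _ κ
  refine ⟨⟨Subobject.mk κ, TildeOpenLib.isCoh_of_iso' ec.symm hcoh, fun z => PullbackMod.isFlatOverAt_of_iso ec.symm _ z
    (isFlatOverAt_of_flat_stalk _ _ z (hflat z))⟩, ?_⟩
  let e₁ := (Scheme.Modules.pullback j).map (kernel.ι ρ₀) ≫ e₀
  haveI : Epi e₁ := by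
    refine (epi_iff_stalk _).2 fun w y => ?_
    obtain ⟨y', rfl⟩ := (epi_iff_stalk e₀).1 inferInstance w y
    obtain ⟨n, rfl⟩ := pullStalk_surjective hj _ w y'
    obtain ⟨v, n', hn'⟩ := hsup (j w) n
    refine ⟨pullStalk j _ w n', ?_⟩
    rw [stalkLin_comp, LinearMap.comp_apply, pullStalk_natural, hn', map_sub, map_sub]
    refine sub_eq_self.2 ((mono_iff_stalk K.1.arrow).1 inferInstance w ?_)
    rw [hθ, map_zero]
    have := ι_el ε q hQ (j w) v
    rw [stalkB_apply] at this
    rw [this, pullStalk_smul_eq_zero hj _ w hεker, map_zero]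
  exact quotPull_eq x E b K.1 κ e₁ (by rw [Category.assoc, ← he₀, ← Functor.map_comp_assoc])

end Groth.Agent.RelQuotLib
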