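import Groth.Agent.RelQuotLib.Gp

/-!
# Fibres of Quot schemes over rational points
-/

set_option autoImplicit false
set_option backward.isDefEq.respectTransparency false
set_option backward.isDefEq.respectTransparency.types false
set_option linter.style.haveILetI false

universe u

open CategoryTheory CategoryTheory.Limits AlgebraicGeometry

noncomputable section

namespace Groth.Agent.RelQuotLib

variable {S X : Scheme.{u}} (x : X ⟶ S) (E : X.Modules) {k : Type u} [Field k] (s : Spec (CommRingCat.of k) ⟶ S)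

/-- The structure map of the fibre. -/
abbrev xs : PicF.XT x (Over.mk s) ⟶ Spec (CommRingCat.of k) := PicF.XTproj x (Over.mk s)

/-- The sheaf on the fibre. -/
abbrev Es : (PicF.XT x (Over.mk s)).Modules := FGA.ET x E (Over.mk s)

/-- A scheme over the point as a scheme over the base. -/
abbrev sOf (T : Over (Spec (CommRingCat.of k))) : Over S := Over.mk (T.hom ≫ s)

/-- Functoriality of `sOf`. -/
abbrev sMap {T T' : Over (Spec (CommRingCat.of k))} (g : T' ⟶ T) : sOf s T' ⟶ sOf s T :=
  Over.homMk g.left (by show g.left ≫ T.hom ≫ s = T'.hom ≫ s; rw [Over.w_assoc])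

/-- The base change of the fibre. -/
def theta (T : Over (Spec (CommRingCat.of k))) : PicF.XT (xs x s) T ⟶ PicF.XT x (sOf s T) :=
  (pullbackLeftPullbackSndIso x s T.hom).hom

instance isIso_theta (T : Over (Spec (CommRingCat.of k))) : IsIso (theta x s T) :=
  inferInstanceAs (IsIso (pullbackLeftPullbackSndIso x s T.hom).hom)

theorem theta_fst (T : Over (Spec (CommRingCat.of k))) :
    theta x s T ≫ pullback.fst x (sOf s T).hom = pullback.fst (xs x s) T.hom ≫ pullback.fst x s :=
  pullbackLeftPullbackSndIso_hom_fst x s T.hom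

theorem theta_proj (T : Over (Spec (CommRingCat.of k))) :
    theta x s T ≫ PicF.XTproj x (sOf s T) = PicF.XTproj (xs x s) T :=
  pullbackLeftPullbackSndIso_hom_snd x s T.hom

theorem theta_nat {T T' : Over (Spec (CommRingCat.of k))} (g : T' ⟶ T) :
    PicF.XTmap (xs x s) g ≫ theta x s T = theta x s T' ≫ PicF.XTmap x (sMap s g) := by
  apply pullback.hom_ext
  · rw [Category.assoc, Category.assoc, theta_fst, FGA.XTmap_fst, theta_fst, ← Category.assoc, FGA.XTmap_fst]
  · rw [Category.assoc, Category.assoc]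
    show _ ≫ theta x s T ≫ PicF.XTproj x _ = _ ≫ _ ≫ PicF.XTproj x _
    rw [theta_proj, QuotRep.XTmap_proj, QuotRep.XTmap_proj, ← Category.assoc (theta x s T'), theta_proj]
    rfl

/-- The flat composite. -/
def sigma (T : Over (Spec (CommRingCat.of k))) :
    (Scheme.Modules.pullback (theta x s T)).obj (FGA.ET x E (sOf s T)) ≅
      (Scheme.Modules.pullback (pullback.fst (xs x s) T.hom ≫ pullback.fst x s)).obj E :=
  (Scheme.Modules.pullbackComp (theta x s T) (pullback.fst x (sOf s T).hom)).app E ≪≫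
    (Scheme.Modules.pullbackCongr (theta_fst x s T)).app E

/-- Pulling back in two steps. -/
def tau (T : Over (Spec (CommRingCat.of k))) :
    FGA.ET (xs x s) (Es x E s) T ≅
      (Scheme.Modules.pullback (pullback.fst (xs x s) T.hom ≫ pullback.fst x s)).obj E :=
  (Scheme.Modules.pullbackComp (pullback.fst (xs x s) T.hom) (pullback.fst x s)).app E ≪≫
    (Scheme.Modules.pullbackCongr rfl).app E

/-- The identification of the sheaves. -/
def eps (T : Over (Spec (CommRingCat.of k))) :
    (Scheme.Modules.pullback (theta x s T)).obj (FGA.ET x E (sOf s T)) ≅ FGA.ET (xs x s) (Es x E s) T :=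
  sigma x E s T ≪≫ (tau x E s T).symm

/-- Restricting a submodule to the fibre. -/
def phi (T : Over (Spec (CommRingCat.of k))) (K : Subobject (FGA.ET x E (sOf s T))) :
    Subobject (FGA.ET (xs x s) (Es x E s) T) :=
  gp (theta x s T) (eps x E s T) K

theorem phi_quotPull {T T' : Over (Spec (CommRingCat.of k))} (g : T' ⟶ T) (K : Subobject (FGA.ET x E (sOf s T))) :
    phi x E s T' (FGA.quotPull x E (sMap s g) K) =
      FGA.quotPull (xs x s) (Es x E s) g (phi x E s T K) := by
  let a := PicF.XTmap (xs x s) g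
  have hr : a ≫ (pullback.fst (xs x s) T.hom ≫ pullback.fst x s) =
      pullback.fst (xs x s) T'.hom ≫ pullback.fst x s := by
    rw [← Category.assoc, FGA.XTmap_fst]
  have hm : (theta x s T' ≫ PicF.XTmap x (sMap s g)) ≫ pullback.fst x (sOf s T).hom =
      pullback.fst (xs x s) T'.hom ≫ pullback.fst x s := by
    rw [Category.assoc, FGA.XTmap_fst, theta_fst]
  let ea : (Scheme.Modules.pullback a).obj
      ((Scheme.Modules.pullback (pullback.fst (xs x s) T.hom ≫ pullback.fst x s)).obj E) ≅
      (Scheme.Modules.pullback (pullback.fst (xs x s) T'.hom ≫ pullback.fst x s)).obj E :=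
    (Scheme.Modules.pullbackComp a _).app E ≪≫ (Scheme.Modules.pullbackCongr hr).app E
  let em : (Scheme.Modules.pullback (theta x s T' ≫ PicF.XTmap x (sMap s g))).obj (FGA.ET x E (sOf s T)) ≅
      (Scheme.Modules.pullback (pullback.fst (xs x s) T'.hom ≫ pullback.fst x s)).obj E :=
    (Scheme.Modules.pullbackComp _ (pullback.fst x (sOf s T).hom)).app E ≪≫ (Scheme.Modules.pullbackCongr hm).app E
  have h1 : (Scheme.Modules.pullback (theta x s T')).map (FGA.ETiso x E (sMap s g)).hom ≫ (sigma x E s T').hom =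
      (Scheme.Modules.pullbackComp (theta x s T') (PicF.XTmap x (sMap s g))).hom.app _ ≫
        (Scheme.Modules.pullbackCongr rfl).hom.app _ ≫ em.hom :=
    HilbObsLib.pullback_cocycle' (theta x s T') (PicF.XTmap x (sMap s g)) (pullback.fst x (sOf s T).hom)
      (FGA.XTmap_fst x (sMap s g)) (theta_fst x s T') rfl hm E _ rfl _ rfl _ rfl
      (FGA.ETiso x E (sMap s g)) HEq.rfl (sigma x E s T') HEq.rfl em HEq.rfl
  have h2 : (Scheme.Modules.pullback a).map (sigma x E s T).hom ≫ ea.hom =
      (Scheme.Modules.pullbackComp a (theta x s T)).hom.app _ ≫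
        (Scheme.Modules.pullbackCongr (theta_nat x s g)).hom.app _ ≫ em.hom :=
    HilbObsLib.pullback_cocycle' a (theta x s T) (pullback.fst x (sOf s T).hom)
      (theta_fst x s T) hr (theta_nat x s g) hm E _ rfl _ rfl _ rfl
      (sigma x E s T) HEq.rfl ea HEq.rfl em HEq.rfl
  have h3 : (Scheme.Modules.pullback a).map (tau x E s T).hom ≫ ea.hom =
      (FGA.ETiso (xs x s) (Es x E s) g).hom ≫ (tau x E s T').hom := by
    refine (HilbObsLib.pullback_cocycle' a (pullback.fst (xs x s) T.hom) (pullback.fst x s)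
      rfl hr (FGA.XTmap_fst (xs x s) g) rfl E _ rfl _ rfl _ rfl
      (tau x E s T) HEq.rfl ea HEq.rfl (tau x E s T') HEq.rfl).trans ?_
    rw [← Category.assoc]
    rfl
  have h4 : (Scheme.Modules.pullback a).map (tau x E s T).inv ≫ (FGA.ETiso (xs x s) (Es x E s) g).hom =
      ea.hom ≫ (tau x E s T').inv := by
    rw [Iso.eq_comp_inv, Category.assoc, ← h3, ← Functor.map_comp_assoc, Iso.inv_hom_id]
    simp
  refine (gp_gp (theta x s T') (PicF.XTmap x (sMap s g)) rfl (FGA.ETiso x E (sMap s g)) (eps x E s T')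
    (em ≪≫ (tau x E s T').symm) ?_ K).trans (gp_gp a (theta x s T) (theta_nat x s g) (eps x E s T)
    (FGA.ETiso (xs x s) (Es x E s) g) (em ≪≫ (tau x E s T').symm) ?_ K).symm
  · simp only [eps, Iso.trans_hom, Iso.symm_hom, ← Category.assoc]
    rw [h1]
    simp only [Category.assoc]
  · simp only [eps, Iso.trans_hom, Iso.symm_hom, Functor.map_comp, Category.assoc]
    rw [h4, reassoc_of% h2]

/-- Restricting a flat quotient to the fibre. -/
def phiQ (T : Over (Spec (CommRingCat.of k))) (K : FGA.QuotSet x E (sOf s T)) :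
    FGA.QuotSet (xs x s) (Es x E s) T :=
  haveI := K.2.1.1
  have hsq : IsPullback (theta x s T) (PicF.XTproj (xs x s) T) (PicF.XTproj x (sOf s T)) (𝟙 T.left) :=
    IsPullback.of_horiz_isIso ⟨by rw [theta_proj]; exact (Category.comp_id _).symm⟩
  ⟨phi x E s T K.1,
    TildeOpenLib.isCoh_of_iso' (nonempty_cokernel_gp _ _ K.1).some.symm (PullbackMod.isCoh_pullback _ _ K.2.1),
    fun w => PullbackMod.isFlatOverAt_of_iso (nonempty_cokernel_gp _ _ K.1).some.symm _ w
      (PullbackMod.isFlatOverAt_baseChange hsq _ w (K.2.2 _))⟩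

theorem bijective_phiQ (T : Over (Spec (CommRingCat.of k))) : Function.Bijective (phiQ x E s T) := by
  refine ⟨fun K₁ K₂ h => Subtype.ext ((bijective_gp (theta x s T) (eps x E s T)).1 (congrArg Subtype.val h)),
    fun L => ?_⟩
  obtain ⟨K, hK⟩ := (bijective_gp (theta x s T) (eps x E s T)).2 L.1
  obtain ⟨c⟩ := nonempty_cokernel_gp (theta x s T) (eps x E s T) K
  have hc : Coh.IsCoh ((Scheme.Modules.pullback (theta x s T)).obj (cokernel K.arrow)) ∧
      FlatMod.IsFlatOver (PicF.XTproj (xs x s) T) ((Scheme.Modules.pullback (theta x s T)).obj (cokernel K.arrow)) := by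
    have hL := L.2
    rw [← hK] at hL
    exact ⟨TildeOpenLib.isCoh_of_iso' c hL.1, fun z => PullbackMod.isFlatOverAt_of_iso c _ z (hL.2 z)⟩
  haveI := hc.1.1
  let d : cokernel K.arrow ≅
      (Scheme.Modules.pullback (inv (theta x s T))).obj
        ((Scheme.Modules.pullback (theta x s T)).obj (cokernel K.arrow)) :=
    ((Scheme.Modules.pullbackId _).app _).symm ≪≫
      (Scheme.Modules.pullbackCongr (IsIso.inv_hom_id (theta x s T)).symm).app _ ≪≫
      ((Scheme.Modules.pullbackComp (inv (theta x s T)) (theta x s T)).app _).symm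
  haveI : IsIso (𝟙 T.left : (sOf s T).left ⟶ T.left) := IsIso.id T.left
  have hsq : IsPullback (inv (theta x s T)) (PicF.XTproj x (sOf s T)) (PicF.XTproj (xs x s) T) (𝟙 T.left) :=
    IsPullback.of_horiz_isIso ⟨by rw [IsIso.inv_comp_eq, ← Category.assoc, theta_proj]; exact (Category.comp_id _).symm⟩
  exact ⟨⟨K, TildeOpenLib.isCoh_of_iso' d.symm (PullbackMod.isCoh_pullback _ _ hc.1),
    fun w => PullbackMod.isFlatOverAt_of_iso d.symm _ w (PullbackMod.isFlatOverAt_baseChange hsq _ w (hc.2 _))⟩,
    Subtype.ext hK⟩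

variable {Q : Over S}

/-- The fibre of the Quot scheme. -/
abbrev fibQ (Q : Over S) : Over (Spec (CommRingCat.of k)) := Over.mk (pullback.snd Q.hom s)

/-- The projection of the fibre to the Quot scheme. -/
abbrev fibPr (Q : Over S) : sOf s (fibQ s Q) ⟶ Q := Over.homMk (pullback.fst Q.hom s) pullback.condition

theorem represented_fibre [LocallyOfFiniteType Q.hom] (Ku : FGA.QuotSet x E Q)
    (hQ : FGA.QuotRepresentedBy x E Q Ku) :
    FGA.QuotRepresentedBy (xs x s) (Es x E s) (fibQ s Q)
      (phiQ x E s (fibQ s Q) (QuotRep.qPull x E (fibPr s Q) Ku)) := by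
  constructor
  · haveI : LocallyOfFiniteType (pullback.snd Q.hom s) := MorphismProperty.pullback_snd _ _ ‹LocallyOfFiniteType Q.hom›
    exact LocallyOfFiniteType.isLocallyNoetherian (pullback.snd Q.hom s)
  intro T hT L
  obtain ⟨K, rfl⟩ := (bijective_phiQ x E s T).2 L
  haveI : IsLocallyNoetherian (sOf s T).left := hT
  obtain ⟨γ, hγ, hu⟩ := hQ.2 (sOf s T) K
  have key : ∀ h : T ⟶ fibQ s Q,
      FGA.quotPull (xs x s) (Es x E s) h (phiQ x E s _ (QuotRep.qPull x E (fibPr s Q) Ku)).1 =
        phi x E s T (FGA.quotPull x E (sMap s h ≫ fibPr s Q) Ku.1) := fun h => by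
    show FGA.quotPull (xs x s) (Es x E s) h (phi x E s _ _) = _
    rw [← phi_quotPull, QuotRep.qPull_val, QuotRep.quotPull_comp]
  refine ⟨Over.homMk (pullback.lift γ.left T.hom (Over.w γ)) (pullback.lift_snd _ _ _), ?_, fun h hh => ?_⟩
  · beta_reduce
    rw [key]
    show phi x E s T _ = phi x E s T K.1
    rw [← hγ]
    exact congrArg (fun m => phi x E s T (FGA.quotPull x E m Ku.1)) (Over.OverMorphism.ext (pullback.lift_fst _ _ _))
  · beta_reduce at hh
    rw [key] at hh
    have h1 := hu _ ((bijective_gp (theta x s T) (eps x E s T)).1 hh)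
    refine Over.OverMorphism.ext (pullback.hom_ext ?_ ?_)
    · show h.left ≫ pullback.fst Q.hom s = pullback.lift _ _ _ ≫ pullback.fst Q.hom s
      rw [pullback.lift_fst, ← h1]
      rfl
    · show h.left ≫ pullback.snd Q.hom s = pullback.lift _ _ _ ≫ pullback.snd Q.hom s
      rw [pullback.lift_snd]
      exact Over.w h

end Groth.Agent.RelQuotLib
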