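import Groth.Agent.QuotRepLib.Basic
import Groth.Agent.BCLib.TensorFun
import Groth.Agent.AmpleEmb.FibreAmple
import Groth.Prelude.Def_KLin

/-!
# Transporting submodules along isomorphisms of schemes
-/

set_option autoImplicit false
set_option backward.isDefEq.respectTransparency false
set_option linter.style.haveILetI false

universe u

open CategoryTheory CategoryTheory.Limits AlgebraicGeometry

noncomputable section

namespace Groth.Agent.RelQuotLib

/-- Inverse image of a submodule. -/
def gp {Y' Y : Scheme.{u}} (θ : Y' ⟶ Y) {M : Y.Modules} {M' : Y'.Modules}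
    (e : (Scheme.Modules.pullback θ).obj M ≅ M') (K : Subobject M) : Subobject M' :=
  imageSubobject ((Scheme.Modules.pullback θ).map K.arrow ≫ e.hom)

theorem gp_gp {Y'' Y' Y : Scheme.{u}} (a : Y'' ⟶ Y') (b : Y' ⟶ Y) {m : Y'' ⟶ Y} (hab : a ≫ b = m)
    {M : Y.Modules} {N : Y'.Modules} {L : Y''.Modules}
    (eb : (Scheme.Modules.pullback b).obj M ≅ N) (ea : (Scheme.Modules.pullback a).obj N ≅ L)
    (em : (Scheme.Modules.pullback m).obj M ≅ L)
    (h : (Scheme.Modules.pullback a).map eb.hom ≫ ea.hom =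
      (Scheme.Modules.pullbackComp a b).hom.app M ≫ (Scheme.Modules.pullbackCongr hab).hom.app M ≫ em.hom)
    (K : Subobject M) : gp a ea (gp b eb K) = gp m em K := by
  let F := (Scheme.Modules.pullback b).map K.arrow ≫ eb.hom
  let ψ := Scheme.Modules.pullbackComp a b ≪≫ Scheme.Modules.pullbackCongr hab
  have key : (Scheme.Modules.pullback a).map (factorThruImageSubobject F) ≫
      ((Scheme.Modules.pullback a).map (imageSubobject F).arrow ≫ ea.hom) =
      ψ.hom.app (K : Y.Modules) ≫ ((Scheme.Modules.pullback m).map K.arrow ≫ em.hom) := by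
    rw [← Category.assoc, ← Functor.map_comp, imageSubobject_arrow_comp, Functor.map_comp, Category.assoc,
      h, ← Category.assoc (ψ.hom.app _), ← NatTrans.naturality]
    simp [ψ]
  calc gp a ea (gp b eb K)
      = imageSubobject ((Scheme.Modules.pullback a).map (factorThruImageSubobject F) ≫
          ((Scheme.Modules.pullback a).map (imageSubobject F).arrow ≫ ea.hom)) :=
        (HilbObsLib.imageSubobject_of_epi _ _).symm
    _ = _ := by rw [key]; exact HilbObsLib.imageSubobject_of_epi _ _

theorem nonempty_cokernel_gp {Y' Y : Scheme.{u}} (θ : Y' ⟶ Y) {M : Y.Modules} {M' : Y'.Modules}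
    (e : (Scheme.Modules.pullback θ).obj M ≅ M') (K : Subobject M) :
    Nonempty (cokernel (gp θ e K).arrow ≅ (Scheme.Modules.pullback θ).obj (cokernel K.arrow)) := by
  obtain ⟨i₁⟩ := HilbObsLib.nonempty_cokernel_iso e
    (imageSubobject_arrow_comp ((Scheme.Modules.pullback θ).map K.arrow ≫ e.hom)).symm
  exact ⟨i₁.symm ≪≫ (PreservesCokernel.iso (Scheme.Modules.pullback θ) K.arrow).symm⟩

theorem isEquivalence_pullback {Y' Y : Scheme.{u}} (θ : Y' ⟶ Y) [IsIso θ] :
    (Scheme.Modules.pullback θ).IsEquivalence :=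
  haveI : (Scheme.Modules.pushforward θ).IsEquivalence :=
    (CategoryTheory.Equivalence.mk (Scheme.Modules.pushforward θ) (Scheme.Modules.pushforward (inv θ))
      ((Scheme.Modules.pushforwardId Y').symm ≪≫
        (Scheme.Modules.pushforwardCongr (IsIso.hom_inv_id θ)).symm ≪≫
        (Scheme.Modules.pushforwardComp θ (inv θ)).symm)
      ((Scheme.Modules.pushforwardComp (inv θ) θ) ≪≫
        Scheme.Modules.pushforwardCongr (IsIso.inv_hom_id θ) ≪≫
        Scheme.Modules.pushforwardId Y)).isEquivalence_functor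
  (Scheme.Modules.pullbackPushforwardAdjunction θ).isEquivalence_left_of_isEquivalence_right

theorem bijective_image_map {C D : Type*} [Category C] [Category D] [Abelian C] [Abelian D] (F : C ⥤ D)
    [F.IsEquivalence] {M : C} {M' : D} (e : F.obj M ≅ M') :
    Function.Bijective fun K : Subobject M => imageSubobject (F.map K.arrow ≫ e.hom) := by
  have hm : ∀ K : Subobject M, imageSubobject (F.map K.arrow ≫ e.hom) = Subobject.mk (F.map K.arrow ≫ e.hom) :=
    fun K => imageSubobject_mono _
  constructor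
  · intro K₁ K₂ h
    simp only [hm] at h
    let v := Subobject.isoOfMkEqMk _ _ h
    have hv : v.hom ≫ F.map K₂.arrow ≫ e.hom = F.map K₁.arrow ≫ e.hom := Subobject.ofMkLEMk_comp _
    refine Subobject.eq_of_comm (F.preimageIso v) (F.map_injective ?_)
    rw [F.map_comp, Functor.preimageIso_hom, F.map_preimage, ← cancel_mono e.hom, Category.assoc]
    exact hv
  · intro L
    let a := F.objObjPreimageIso (L : D)
    let κ : F.objPreimage (L : D) ⟶ M := F.preimage (a.hom ≫ L.arrow ≫ e.inv)
    haveI : Mono (F.map κ) := by rw [F.map_preimage]; infer_instance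
    haveI : Mono κ := F.mono_of_mono_map inferInstance
    refine ⟨Subobject.mk κ, ?_⟩
    show imageSubobject _ = L
    rw [hm]
    refine Subobject.mk_eq_of_comm _ (F.mapIso (Subobject.underlyingIso κ) ≪≫ a) ?_
    rw [← cancel_mono e.inv, Category.assoc, Category.assoc, Iso.hom_inv_id, Category.comp_id, Iso.trans_hom,
      Category.assoc, Functor.mapIso_hom, ← Subobject.underlyingIso_hom_comp_eq_mk κ, F.map_comp, F.map_preimage]

theorem bijective_gp {Y' Y : Scheme.{u}} (θ : Y' ⟶ Y) [IsIso θ] {M : Y.Modules} {M' : Y'.Modules}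
    (e : (Scheme.Modules.pullback θ).obj M ≅ M') : Function.Bijective (gp θ e) :=
  haveI := isEquivalence_pullback θ
  bijective_image_map (Scheme.Modules.pullback θ) e

theorem nonempty_source_gp {Y' Y : Scheme.{u}} (θ : Y' ⟶ Y) [IsIso θ] {M : Y.Modules} {M' : Y'.Modules}
    (e : (Scheme.Modules.pullback θ).obj M ≅ M') (K : Subobject M) :
    Nonempty ((gp θ e K : Y'.Modules) ≅ (Scheme.Modules.pullback θ).obj (K : Y.Modules)) := by
  haveI := isEquivalence_pullback θ
  exact ⟨imageSubobjectIso _ ≪≫ imageMonoIsoSource _⟩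

theorem isCoh_of_coh_cokernel {Y : Scheme.{u}} [IsLocallyNoetherian Y] {M : Y.Modules} (hM : Coh.IsCoh M)
    (K : Subobject M)
    (hK : Coh.IsCoh (cokernel K.arrow)) : Coh.IsCoh (K : Y.Modules) :=
  TildeOpenLib.isCoh_of_iso' ((kernelIsKernel (cokernel.π K.arrow)).conePointUniqueUpToIso
    (Abelian.monoIsKernelOfCokernel (CokernelCofork.ofπ (cokernel.π K.arrow) (cokernel.condition _))
      (cokernelIsCokernel K.arrow)))
    (QCohLib.isCoh_kernel_cokernel (cokernel.π K.arrow) hM hK).1

/-- Homomorphisms between a submodule and its cokernel transport along isomorphisms. -/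
theorem finrank_hom_gp {k : Type u} [Field k] {Y' Y : Scheme.{u}} (θ : Y' ⟶ Y) [IsIso θ]
    (p : Y ⟶ Spec (CommRingCat.of k)) (p' : Y' ⟶ Spec (CommRingCat.of k)) (hp : θ ≫ p = p')
    {M : Y.Modules} {M' : Y'.Modules} (e : (Scheme.Modules.pullback θ).obj M ≅ M') (K : Subobject M)
    (hK : Coh.IsQCoh (K : Y.Modules)) :
    (letI : Y'.Over (Spec (CommRingCat.of k)) := ⟨p'⟩
    Module.finrank k ((gp θ e K : Y'.Modules) ⟶ cokernel (gp θ e K).arrow)) =
    (letI : Y.Over (Spec (CommRingCat.of k)) := ⟨p⟩
    Module.finrank k ((K : Y.Modules) ⟶ cokernel K.arrow)) := by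
  letI : Y'.Over (Spec (CommRingCat.of k)) := ⟨p'⟩
  letI : Y.Over (Spec (CommRingCat.of k)) := ⟨p⟩
  haveI := isEquivalence_pullback θ
  haveI := hK
  let F := Scheme.Modules.pullback θ
  obtain ⟨s⟩ := nonempty_source_gp θ e K
  obtain ⟨c⟩ := nonempty_cokernel_gp θ e K
  haveI : F.Additive := Functor.additive_of_preserves_binary_products _
  let L : ((K : Y.Modules) ⟶ cokernel K.arrow) →ₗ[k]
      ((gp θ e K : Y'.Modules) ⟶ cokernel (gp θ e K).arrow) :=
    { toFun := fun f => s.hom ≫ F.map f ≫ c.inv
      map_add' := fun f g => by rw [F.map_add, Preadditive.add_comp, Preadditive.comp_add]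
      map_smul' := fun a f => by
        have e1 : θ.appTop (Coh.toGlobal p a) = Coh.toGlobal p' a := by rw [← hp]; rfl
        show s.hom ≫ F.map (Formal.smulModΓ _ (Coh.toGlobal p a) ≫ f) ≫ c.inv =
          Formal.smulModΓ _ (Coh.toGlobal p' a) ≫ s.hom ≫ F.map f ≫ c.inv
        rw [F.map_comp, BCLib.pullback_map_smulModΓ, e1, ← Category.assoc (Formal.smulModΓ _ _) s.hom,
          AmpleEmb.smulModΓ_natural s.hom]
        simp only [Category.assoc]
        }
  have hL : Function.Bijective L := by
    refine ⟨fun f g h => ?_, fun f => ⟨F.preimage (s.inv ≫ f ≫ c.hom), ?_⟩⟩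
    · exact F.map_injective ((cancel_mono c.inv).1 ((cancel_epi s.hom).1 h))
    · show s.hom ≫ F.map _ ≫ c.inv = f
      rw [F.map_preimage, Category.assoc, Category.assoc, Iso.hom_inv_id, Category.comp_id, Iso.hom_inv_id_assoc]
  exact (LinearEquiv.ofBijective L hL).finrank_eq.symm

end Groth.Agent.RelQuotLib
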