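import Groth.Agent.RelQuotLib.Smooth
import Groth.Agent.RelQuotLib.Fibre
import Groth.Agent.QuotTanLib.Main
import Groth.Agent.TransvLib.RelDim
import Groth.Agent.ASp.GeomRedEt
import Groth.Agent.DimFormulaLib.Field

/-!
# The relative dimension of a Quot scheme at an unobstructed point
-/

set_option autoImplicit false
set_option backward.isDefEq.respectTransparency false
set_option backward.isDefEq.respectTransparency.types false
set_option linter.style.haveILetI false

universe u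

open CategoryTheory CategoryTheory.Limits AlgebraicGeometry IsLocalRing

noncomputable section

namespace Groth.Agent.RelQuotLib

variable {k : Type u} [Field k]

theorem finrank_cotangent_smooth {Z : Scheme.{u}} (f : Z ⟶ Spec (CommRingCat.of k)) (n : ℕ)
    [SmoothOfRelativeDimension n f] (z : Spec (CommRingCat.of k) ⟶ Z) (hz : z ≫ f = 𝟙 _) :
    ringKrullDim (Z.presheaf.stalk (z (closedPoint k))) = n ∧
      IsRegularLocalRing (Z.presheaf.stalk (z (closedPoint k))) := by
  haveI : Smooth f := SmoothOfRelativeDimension.smooth n f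
  haveI : JacobsonSpace Z := LocallyOfFiniteType.jacobsonSpace f
  haveI : LocallyOfFiniteType (z ≫ f) := by rw [hz]; infer_instance
  haveI : LocallyOfFiniteType z := locallyOfFiniteType_of_comp z f
  have hc : IsClosed ({z (closedPoint k)} : Set Z) :=
    z.closePoints_subset_preimage_closedPoints (isClosed_singleton (x := closedPoint k))
  refine ⟨?_, ASp.isRegularLocalRing_stalk_of_smooth_field f _⟩
  rw [← DimFormulaLib.localDim_eq_of_isClosed f _ hc]
  exact S2768.localDim_eq n f _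

theorem finrank_cotangent_of_open {Y : Scheme.{u}} (f : Y ⟶ Spec (CommRingCat.of k)) (V : Y.Opens) (n : ℕ)
    [SmoothOfRelativeDimension n (V.ι ≫ f)] (z : Spec (CommRingCat.of k) ⟶ Y) (hz : z ≫ f = 𝟙 _)
    (hV : z (closedPoint k) ∈ V) :
    Module.finrank (ResidueField (Y.presheaf.stalk (z (closedPoint k))))
      (CotangentSpace (Y.presheaf.stalk (z (closedPoint k)))) = n := by
  have hr : Set.range z ⊆ Set.range V.ι := by
    rintro _ ⟨a, rfl⟩
    rw [Scheme.Opens.range_ι, Subsingleton.elim a (closedPoint k)]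
    exact hV
  let z' : Spec (CommRingCat.of k) ⟶ V.toScheme := IsOpenImmersion.lift V.ι z hr
  have hz' : z' ≫ V.ι = z := IsOpenImmersion.lift_fac _ _ _
  obtain ⟨hd, hreg⟩ := finrank_cotangent_smooth (V.ι ≫ f) n z' (by rw [← Category.assoc, hz', hz])
  let a := z' (closedPoint k)
  have ha : V.ι a = z (closedPoint k) := by rw [← Scheme.Hom.comp_apply, hz']
  let eR : Y.presheaf.stalk (V.ι a) ≃+* V.toScheme.presheaf.stalk a :=
    (asIso (V.ι.stalkMap a)).commRingCatIsoToRingEquiv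
  rw [← ha]
  haveI := hreg
  haveI : IsRegularLocalRing (Y.presheaf.stalk (V.ι a)) := IsRegularLocalRing.of_ringEquiv eR.symm
  have h := (IsRegularLocalRing.iff_finrank_cotangentSpace _).1
    (inferInstance : IsRegularLocalRing (Y.presheaf.stalk (V.ι a)))
  rw [ringKrullDim_eq_of_ringEquiv eR, hd] at h
  exact_mod_cast h

variable {S X : Scheme.{u}} (x : X ⟶ S) (E : X.Modules) (σ : S ⟶ Spec (CommRingCat.of k))

set_option maxHeartbeats 800000 in
theorem exists_relDim_nhd [LocallyOfFiniteType x] [IsLocallyNoetherian S] (hE : Coh.IsCoh E)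
    (hflatE : FlatMod.IsFlatOver x E) {Q : Over S} [LocallyOfFiniteType Q.hom] (Ku : FGA.QuotSet x E Q)
    (hQ : FGA.QuotRepresentedBy x E Q Ku) (s : Spec (CommRingCat.of k) ⟶ S) (hs : s ≫ σ = 𝟙 _)
    (K₀ : FGA.QuotSet x E (Over.mk s)) (g : Over.mk s ⟶ Q) (hg : FGA.quotPull x E g Ku.1 = K₀.1)
    [HasExt.{u} (PicF.XT x (Over.mk s)).Modules]
    (hExt : Subsingleton (Abelian.Ext.{u} (Subobject.underlying.obj K₀.1) (cokernel K₀.1.arrow) 1)) :
    ∃ U : Q.left.Opens, g.left (closedPoint k) ∈ U ∧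
      SmoothOfRelativeDimension
        (letI : (PicF.XT x (Over.mk s)).Over (Spec (CommRingCat.of k)) := ⟨PicF.XTproj x (Over.mk s)⟩
        Module.finrank k (Subobject.underlying.obj K₀.1 ⟶ cokernel K₀.1.arrow))
        (U.ι ≫ Q.hom) := by
  obtain ⟨U₀, hqU₀, hU₀⟩ := exists_smooth_nhd x E σ hE hflatE Ku hQ s hs K₀ g hg hExt
  haveI := hU₀
  obtain ⟨n, W, hqW, hn⟩ := TransvLib.exists_chart_relDim (U₀.ι ≫ Q.hom) ⟨_, hqU₀⟩
  let U : Q.left.Opens := U₀.ι ''ᵁ W
  have hqU : g.left (closedPoint k) ∈ U := ⟨⟨_, hqU₀⟩, hqW, rfl⟩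
  haveI hU : SmoothOfRelativeDimension n (U.ι ≫ Q.hom) := by
    have h1 : U.ι ≫ Q.hom = (U₀.ι.isoImage W).inv ≫ W.ι ≫ U₀.ι ≫ Q.hom := by
      rw [Scheme.Hom.isoImage_inv_ι_assoc]
    rw [h1]
    haveI := hn
    have := smoothOfRelativeDimension_comp (n := 0) (m := n) (U₀.ι.isoImage W).inv (W.ι ≫ U₀.ι ≫ Q.hom)
    rwa [Nat.zero_add] at this
  refine ⟨U, hqU, ?_⟩
  suffices h : (letI : (PicF.XT x (Over.mk s)).Over (Spec (CommRingCat.of k)) := ⟨PicF.XTproj x (Over.mk s)⟩
      Module.finrank k (Subobject.underlying.obj K₀.1 ⟶ cokernel K₀.1.arrow)) = n by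
    rw [h]
    exact hU
  -- the fibre
  let Qs := fibQ s Q
  let pf := pullback.fst Q.hom s
  haveI : SmoothOfRelativeDimension n ((pf ⁻¹ᵁ U).ι ≫ pullback.snd Q.hom s) := by
    haveI := smoothOfRelativeDimension_isStableUnderBaseChange (n := n)
    exact MorphismProperty.of_isPullback
      ((isPullback_morphismRestrict pf U).paste_vert (IsPullback.of_hasPullback Q.hom s)) hU
  let T₀ : Over (Spec (CommRingCat.of k)) := Over.mk (𝟙 (Spec (CommRingCat.of k)))
  let z : Spec (CommRingCat.of k) ⟶ pullback Q.hom s := pullback.lift g.left (𝟙 _) (by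
    rw [Category.id_comp]; exact Over.w g)
  have hdim := finrank_cotangent_of_open (pullback.snd Q.hom s) (pf ⁻¹ᵁ U) n z (pullback.lift_snd _ _ _) (by
    show pf (z (closedPoint k)) ∈ U
    rw [← Scheme.Hom.comp_apply, pullback.lift_fst]
    exact hqU)
  -- the tangent space
  let h : T₀ ⟶ Qs := Over.homMk z (pullback.lift_snd _ _ _)
  let i : sOf s T₀ ⟶ Over.mk s := Over.homMk (𝟙 (Spec (CommRingCat.of k))) rfl
  have hsi : sMap s h ≫ fibPr s Q = i ≫ g := Over.OverMorphism.ext (by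
    show z ≫ pullback.fst Q.hom s = 𝟙 _ ≫ g.left
    rw [pullback.lift_fst, Category.id_comp])
  let K' := QuotRep.qPull x E i K₀
  let L₀ := phiQ x E s T₀ K'
  have hgL : FGA.quotPull (xs x s) (Es x E s) h
      (phiQ x E s Qs (QuotRep.qPull x E (fibPr s Q) Ku)).1 = L₀.1 := by
    show FGA.quotPull (xs x s) (Es x E s) h (phi x E s Qs _) = phi x E s T₀ K'.1
    rw [← phi_quotPull, QuotRep.qPull_val, QuotRep.quotPull_comp, hsi, QuotRep.qPull_val, ← hg,
      QuotRep.quotPull_comp]
  haveI : LocallyOfFiniteType (xs x s) := MorphismProperty.pullback_snd _ _ ‹LocallyOfFiniteType x›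
  haveI : LocallyOfFiniteType (PicF.XTproj x (sOf s T₀)) := MorphismProperty.pullback_snd _ _ ‹LocallyOfFiniteType x›
  have hEs : Coh.IsCoh (Es x E s) := PullbackMod.isCoh_pullback _ _ hE
  have htan := QuotTanLib.finrank_cotangent_quot (xs x s) (Es x E s) Qs
    (phiQ x E s Qs (QuotRep.qPull x E (fibPr s Q) Ku)) h hEs _ h L₀ hgL
    (represented_fibre x E s Ku hQ) rfl (Category.id_comp h).symm (PicF.XTproj (xs x s) T₀) HEq.rfl
  haveI : IsLocallyNoetherian (PicF.XT x (Over.mk s)) :=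
    LocallyOfFiniteType.isLocallyNoetherian (xs x s)
  haveI : IsLocallyNoetherian (PicF.XT x (sOf s T₀)) :=
    LocallyOfFiniteType.isLocallyNoetherian (Y := Spec (CommRingCat.of k)) (PicF.XTproj x (sOf s T₀))
  haveI : IsIso (PicF.XTmap x i) := by
    haveI : IsIso i.left := IsIso.id (Spec (CommRingCat.of k))
    exact (QuotRep.isPullback_XTmap x i).isIso_fst_of_isIso
  have e1 := finrank_hom_gp (k := k) (theta x s T₀) (PicF.XTproj x (sOf s T₀)) (PicF.XTproj (xs x s) T₀)
    (theta_proj x s T₀) (eps x E s T₀) K'.1 (isCoh_of_coh_cokernel (PullbackMod.isCoh_pullback _ _ hE) K'.1 K'.2.1).1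
  have e2 := finrank_hom_gp (k := k) (PicF.XTmap x i) (PicF.XTproj x (Over.mk s)) (PicF.XTproj x (sOf s T₀))
    ((QuotRep.XTmap_proj x i).trans (Category.comp_id _)) (FGA.ETiso x E i) K₀.1
    (isCoh_of_coh_cokernel (PullbackMod.isCoh_pullback _ _ hE) K₀.1 K₀.2.1).1
  exact (e2.symm.trans (e1.symm.trans htan.symm)).trans hdim

end Groth.Agent.RelQuotLib
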