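import Groth.Agent.RelQuotLib.Ext
import Groth.Agent.S3229
import Groth.Agent.SmLiftCrit.Scheme
import Groth.Agent.BCLib.DVR

/-!
# Smoothness of a relative Quot scheme at unobstructed rational points
-/

set_option autoImplicit false
set_option backward.isDefEq.respectTransparency false
set_option backward.isDefEq.respectTransparency.types false
set_option linter.style.haveILetI false

universe u

open CategoryTheory CategoryTheory.Limits AlgebraicGeometry TopologicalSpace Opposite IsLocalRing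

noncomputable section

namespace Groth.Agent.RelQuotLib

variable {S X : Scheme.{u}} (x : X ⟶ S) (E : X.Modules)

theorem nonempty_iso_of_represented {Q Q' : Over S} {Ku : FGA.QuotSet x E Q} {Ku' : FGA.QuotSet x E Q'}
    (hQ : FGA.QuotRepresentedBy x E Q Ku) (hQ' : FGA.QuotRepresentedBy x E Q' Ku') : Nonempty (Q ≅ Q') := by
  have key : ∀ (R R' : Over S) (L : FGA.QuotSet x E R) (L' : FGA.QuotSet x E R'), FGA.QuotRepresentedBy x E R L →
      ∀ (a : R ⟶ R') (b : R' ⟶ R), FGA.quotPull x E a L'.1 = L.1 → FGA.quotPull x E b L.1 = L'.1 → a ≫ b = 𝟙 R := by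
    intro R R' L L' hR a b ha hb
    haveI := hR.1
    refine (Category.id_comp _).symm.trans ((hR.2 R (QuotRep.qPull x E (𝟙 R) L)).unique ?_ rfl)
    rw [QuotRep.qPull_val, ← QuotRep.quotPull_comp, ← QuotRep.quotPull_comp, hb, ha]
  haveI := hQ.1
  haveI := hQ'.1
  obtain ⟨a, ha, -⟩ := hQ'.2 Q Ku
  obtain ⟨b, hb, -⟩ := hQ.2 Q' Ku'
  exact ⟨⟨a, b, key Q Q' Ku Ku' hQ a b ha hb, key Q' Q Ku' Ku hQ' b a hb ha⟩⟩

theorem lft_of_represented [IsNoetherian S] {n : ℕ} (c : X ⟶ CohB1.ProjSpaceOver n S) [IsClosedImmersion c]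
    (hcx : c ≫ CohB1.ProjSpaceOver.toBase n S = x) (hE : Coh.IsCoh E)
    {Q : Over S} {Ku : FGA.QuotSet x E Q} (hQ : FGA.QuotRepresentedBy x E Q Ku) : LocallyOfFiniteType Q.hom := by
  subst hcx
  obtain ⟨Q', K', hQ', ι, P, e, hP⟩ := Groth.Agent.S3229.result S n X c E hE
  obtain ⟨φ⟩ := nonempty_iso_of_represented _ E hQ hQ'
  have h1 : LocallyOfFiniteType (e.hom ≫ Q'.hom) :=
    IsZariskiLocalAtSource.of_openCover (P := @LocallyOfFiniteType) (sigmaOpenCover P) fun a => by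
      haveI := hP a
      exact inferInstanceAs (LocallyOfFiniteType (Limits.Sigma.ι P a ≫ e.hom ≫ Q'.hom))
  have h2 : Q.hom = φ.hom.left ≫ e.inv ≫ e.hom ≫ Q'.hom := by
    rw [Iso.inv_hom_id_assoc, Over.w φ.hom]
  rw [h2]
  haveI : IsIso φ.hom.left := inferInstanceAs (IsIso ((Over.forget S).map φ.hom))
  infer_instance

variable {k : Type u} [Field k] (σ : S ⟶ Spec (CommRingCat.of k))

theorem exists_smooth_nhd [LocallyOfFiniteType x] [IsLocallyNoetherian S] (hE : Coh.IsCoh E)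
    (hflatE : FlatMod.IsFlatOver x E) {Q : Over S} [LocallyOfFiniteType Q.hom] (Ku : FGA.QuotSet x E Q)
    (hQ : FGA.QuotRepresentedBy x E Q Ku) (s : Spec (CommRingCat.of k) ⟶ S) (hs : s ≫ σ = 𝟙 _)
    (K₀ : FGA.QuotSet x E (Over.mk s)) (g : Over.mk s ⟶ Q) (hg : FGA.quotPull x E g Ku.1 = K₀.1)
    [HasExt.{u} (PicF.XT x (Over.mk s)).Modules]
    (hExt : Subsingleton (Abelian.Ext.{u} (Subobject.underlying.obj K₀.1) (cokernel K₀.1.arrow) 1)) :
    ∃ U : Q.left.Opens, g.left (closedPoint k) ∈ U ∧ Smooth (U.ι ≫ Q.hom) := by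
  haveI : LocallyOfFinitePresentation Q.hom := SmLiftCrit.lfp_of_noetherian Q.hom
  rw [SmLiftCrit.smooth_nhd_iff]
  set q := g.left (closedPoint k) with hqdef
  obtain ⟨_, ⟨V, hV, rfl⟩, hqV, -⟩ :=
    S.isBasis_affineOpens.exists_subset_of_mem_open (Set.mem_univ (Q.hom q)) isOpen_univ
  obtain ⟨_, ⟨W, hW, rfl⟩, hqW, e⟩ :=
    Q.left.isBasis_affineOpens.exists_subset_of_mem_open hqV (V.2.preimage Q.hom.continuous)
  let gL : Spec (CommRingCat.of k) ⟶ Q.left := g.left
  have hrange : Set.range gL ⊆ Set.range hW.fromSpec := by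
    rintro _ ⟨a, rfl⟩
    rw [hW.range_fromSpec, Subsingleton.elim a (closedPoint k)]
    exact hqW
  obtain ⟨g0, hg0⟩ := Spec.map_surjective (IsOpenImmersion.lift hW.fromSpec gL hrange)
  have hg0' : Spec.map g0 ≫ hW.fromSpec = gL := by rw [hg0, IsOpenImmersion.lift_fac]
  obtain ⟨τ, hτ⟩ := Spec.map_surjective (hW.fromSpec ≫ Q.hom ≫ σ)
  have hτ' : τ ≫ g0 = 𝟙 _ := Spec.map_injective (by
    rw [Spec.map_comp, Spec.map_id, hτ, ← Category.assoc, hg0', ← hs, ← Category.assoc]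
    exact congrArg (· ≫ σ) (Over.w g))
  have hg0surj : Function.Surjective g0.hom := fun c => ⟨τ.hom c, by
    rw [← CommRingCat.comp_apply, hτ']; rfl⟩
  have hprime : (hW.primeIdealOf ⟨q, hqW⟩).asIdeal = RingHom.ker g0.hom := by
    have h1 : hW.primeIdealOf ⟨q, hqW⟩ = Spec.map g0 (closedPoint k) := by
      refine hW.fromSpec.isOpenEmbedding.injective ?_
      rw [hW.fromSpec_primeIdealOf, ← Scheme.Hom.comp_apply, hg0']
      rfl
    rw [h1]
    show Ideal.comap g0.hom (maximalIdeal k) = _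
    rw [IsLocalRing.maximalIdeal_eq_bot]
    rfl
  haveI : IsLocallyNoetherian Q.left := hQ.1
  refine SmLiftCrit.formallySmooth_stalkMap_of_lift Q.hom hV hW e hqW fun A _ _ _ φ J _ hJ gW hgW hq hres => ?_
  obtain ⟨t, ht, hann⟩ := hJ
  by_cases ht0 : t = 0
  · have hbij : Function.Bijective (Ideal.Quotient.mk J) := by
      refine ⟨(injective_iff_map_eq_zero _).2 fun a ha => ?_, Ideal.Quotient.mk_surjective⟩
      rwa [Ideal.Quotient.eq_zero_iff_mem, ht, ht0, Ideal.span_singleton_eq_bot.2 rfl, Ideal.mem_bot] at ha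
    refine ⟨(RingEquiv.ofBijective _ hbij).symm.toRingHom.comp gW, RingHom.ext fun r => ?_, RingHom.ext fun r => ?_⟩
    · show (RingEquiv.ofBijective _ hbij).symm (gW _) = φ r
      rw [RingEquiv.symm_apply_eq]
      exact RingHom.congr_fun hgW r
    · exact (RingEquiv.ofBijective _ hbij).apply_symm_apply _
  -- the residue field of `A ⧸ J` is `k`
  let κ : Γ(Q.left, W) →+* ResidueField (A ⧸ J) := (residue (A ⧸ J)).comp gW
  have hκker : RingHom.ker κ = RingHom.ker g0.hom := by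
    rw [← hprime, ← hq]
    ext r
    rw [RingHom.mem_ker, Ideal.mem_comap]
    exact Ideal.Quotient.eq_zero_iff_mem
  have hκ : Function.Surjective κ := fun y => by
    obtain ⟨y, rfl⟩ := residue_surjective y
    obtain ⟨a, b, hb, hy⟩ := hres y
    have hb' : g0.hom b ≠ 0 := fun h => hb (hprime.ge h)
    have h1 : b * τ.hom (g0.hom b)⁻¹ - 1 ∈ RingHom.ker g0.hom := by
      rw [RingHom.mem_ker, map_sub, map_mul, map_one, ← CommRingCat.comp_apply, hτ']
      show g0.hom b * (g0.hom b)⁻¹ - 1 = 0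
      rw [mul_inv_cancel₀ hb', sub_self]
    rw [← hκker, RingHom.mem_ker, map_sub, map_mul, map_one, sub_eq_zero] at h1
    refine ⟨a * τ.hom (g0.hom b)⁻¹, ?_⟩
    have h2 : κ b * residue _ y = κ a := by
      rw [← sub_eq_zero]
      show residue _ (gW b) * residue _ y - residue _ (gW a) = 0
      rw [← map_mul, ← map_sub]
      exact Ideal.Quotient.eq_zero_iff_mem.2 hy
    rw [map_mul, ← h2, mul_right_comm, h1, one_mul]
  let e₀ : ResidueField (A ⧸ J) →+* k := RingHom.liftOfSurjective κ hκ ⟨g0.hom, hκker.le⟩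
  let ρ : A ⧸ J →+* k := e₀.comp (residue (A ⧸ J))
  have hρg : ρ.comp gW = g0.hom := RingHom.liftOfSurjective_comp κ hκ ⟨g0.hom, hκker.le⟩
  have hρ : Function.Surjective ρ := fun c => by
    obtain ⟨r, rfl⟩ := hg0surj c
    exact ⟨gW r, RingHom.congr_fun hρg r⟩
  -- the points
  let α : Spec (CommRingCat.of (A ⧸ J)) ⟶ Q.left := Spec.map (CommRingCat.ofHom gW) ≫ hW.fromSpec
  let sB : Spec (CommRingCat.of A) ⟶ S := Spec.map (CommRingCat.ofHom φ) ≫ hV.fromSpec
  let sA : Spec (CommRingCat.of (A ⧸ J)) ⟶ S := α ≫ Q.hom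
  have hA : Spec.map (CommRingCat.ofHom (Ideal.Quotient.mk J)) ≫ sB = sA := by
    simp only [sA, α, sB, Category.assoc, ← IsAffineOpen.SpecMap_appLE_fromSpec Q.hom hV hW e, ← Spec.map_comp_assoc]
    congr 2
    exact CommRingCat.hom_ext hgW.symm
  have hρα : Spec.map (CommRingCat.ofHom ρ) ≫ α = gL := by
    rw [← hg0', ← Category.assoc, ← Spec.map_comp]
    congr 2
    exact CommRingCat.hom_ext hρg
  have hsA : Spec.map (CommRingCat.ofHom ρ) ≫ sA = s := by
    rw [← Category.assoc, hρα]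
    exact Over.w g
  let α' : Over.mk sA ⟶ Q := Over.homMk α rfl
  let K : FGA.QuotSet x E (Over.mk sA) := QuotRep.qPull x E α' Ku
  have hK₀ : FGA.quotPull x E (Over.homMk (Spec.map (CommRingCat.ofHom ρ)) hsA : Over.mk s ⟶ Over.mk sA) K.1 = K₀.1 := by
    rw [QuotRep.qPull_val, QuotRep.quotPull_comp, ← hg]
    exact congrArg (fun m => FGA.quotPull x E m Ku.1) (Over.OverMorphism.ext hρα)
  obtain ⟨K', hK'⟩ := exists_extension_small x E hE hflatE (Ideal.Quotient.mk J) Ideal.Quotient.mk_surjective t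
    (Ideal.mk_ker.trans ht) ht0 hann ρ hρ sB sA s hA hsA K K₀ hK₀ hExt
  haveI : IsLocallyNoetherian (Over.mk sB).left := inferInstanceAs (IsLocallyNoetherian (Spec (CommRingCat.of A)))
  haveI : IsLocallyNoetherian (Over.mk sA).left := inferInstanceAs (IsLocallyNoetherian (Spec (CommRingCat.of (A ⧸ J))))
  obtain ⟨γ, hγ, -⟩ := hQ.2 (Over.mk sB) K'
  let γL : Spec (CommRingCat.of A) ⟶ Q.left := γ.left
  have hbγ : Spec.map (CommRingCat.ofHom (Ideal.Quotient.mk J)) ≫ γL = α := by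
    have h := (hQ.2 (Over.mk sA) K).unique
      (y₁ := (Over.homMk (Spec.map (CommRingCat.ofHom (Ideal.Quotient.mk J))) hA : Over.mk sA ⟶ Over.mk sB) ≫ γ)
      (y₂ := α') (by rw [← QuotRep.quotPull_comp, hγ, hK']) (QuotRep.qPull_val x E α' Ku).symm
    exact congrArg CommaMorphism.left h
  haveI := SmLiftCrit.subsingleton_spec_artinian A
  have hrγ : Set.range γL ⊆ Set.range hW.fromSpec := by
    rintro _ ⟨a, rfl⟩
    rw [Subsingleton.elim a (Spec.map (CommRingCat.ofHom (Ideal.Quotient.mk J)) (closedPoint (A ⧸ J))),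
      ← Scheme.Hom.comp_apply, hbγ]
    exact ⟨_, rfl⟩
  obtain ⟨g', hg'⟩ := Spec.map_surjective (IsOpenImmersion.lift hW.fromSpec γL hrγ)
  have hg'' : Spec.map g' ≫ hW.fromSpec = γL := by rw [hg', IsOpenImmersion.lift_fac]
  refine ⟨g'.hom, ?_, ?_⟩
  · have h1 : Spec.map g' ≫ Spec.map (Q.hom.appLE V W e) = Spec.map (CommRingCat.ofHom φ) := by
      rw [← cancel_mono hV.fromSpec, Category.assoc, IsAffineOpen.SpecMap_appLE_fromSpec Q.hom hV hW e,
        ← Category.assoc, hg'']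
      exact Over.w γ
    rw [← Spec.map_comp] at h1
    exact congrArg CommRingCat.Hom.hom (Spec.map_injective h1)
  · have h1 : Spec.map (CommRingCat.ofHom (Ideal.Quotient.mk J)) ≫ Spec.map g' = Spec.map (CommRingCat.ofHom gW) := by
      rw [← cancel_mono hW.fromSpec, Category.assoc, hg'', hbγ]
    rw [← Spec.map_comp] at h1
    exact congrArg CommRingCat.Hom.hom (Spec.map_injective h1)

end Groth.Agent.RelQuotLib
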